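import Mathlib
import Cfsg.Prelude.Def_Classification2
import Cfsg.Prelude.Def_LieTypeChar
import Cfsg.Agent.H467.OddNormRow
import Cfsg.Agent.H711.Crit_m3
import Cfsg.Agent.OddHalf.Known
import Cfsg.Agent.Prune
set_option linter.all false
prune_inst 0x7f00000000000000000000000000000000000000000000000000000000000000000000000000000000000000000000000000000000000000000000000000000000000000000000000000000000000000003fffffffffffffffffffffffffffbeffbdffffffff
open scoped Cfsg.Agent.FastGrp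

/-!
# The table of S3855: involutions normalising Sylow `p`-subgroups of almost simple groups (helper952)

`Row p S` (helper467) : the Sylow `p`-subgroups of `S` are cyclic, or `S ≅ PSL₂(p^f)` with `p^f ≡ 3 (mod 4)`, or some
involution of `S` normalises a Sylow `p`-subgroup of `MulAut S` (`Ev p S`).

* `EvA p S` : every `p`-subgroup `A` of `MulAut S` containing `conj Q`, `Q` a Sylow `p`-subgroup of `S`, is normalised by
  `conj h` for an element `h` of `S` of even order; `EvA.ev : EvA p S → Ev p S`;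
* `BadE p S A` : a counterexample (every element of `S` normalising `A` has odd order); `Ev.of_not_badE`;
  `BadE.not_inv` (`A` fixes `z ≠ 1`, then `z` is not real in `S`);
* `RowFor p C` : `Row p X` for all simple nonabelian `X : Type` with `p ∣ #X` and `C X`;
* `Rows p` : the rows; `Rows.row` : every known simple group of order divisible by the odd prime `p` satisfies `Row p`.
-/

set_option autoImplicit false

open Subgroup

namespace Cfsg.Agent.H952.On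

open Cfsg Cfsg.Agent.H467.OddNorm

universe u

/-- every `p`-subgroup of `MulAut S` containing a Sylow `p`-subgroup of `S` is normalised by an element of even order
of `S` -/
def EvA (p : ℕ) (S : Type*) [Group S] : Prop :=
  ∀ A : Subgroup (MulAut S), IsPGroup p A → ∀ Q : Sylow p S, (∀ x ∈ Q, MulAut.conj x ∈ A) →
    ∃ h : S, Even (orderOf h) ∧ ∀ a ∈ A, MulAut.conj h * a * (MulAut.conj h)⁻¹ ∈ A

/-- a counterexample: the elements of `S` normalising `A` have odd order -/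
structure BadE (p : ℕ) (S : Type*) [Group S] (A : Subgroup (MulAut S)) : Prop where
  pgroup : IsPGroup p A
  sylow : ∃ Q : Sylow p S, ∀ x ∈ Q, MulAut.conj x ∈ A
  odd : ∀ s : S, (∀ a ∈ A, MulAut.conj s * a * (MulAut.conj s)⁻¹ ∈ A) → ¬ Even (orderOf s)

section

variable {p : ℕ} {S : Type u} [Group S] [Finite S] [hp : Fact p.Prime]

omit hp in
/-- conjugation by `s` maps `A` into itself: `s` normalises `A` -/
theorem mem_normalizer_of {A : Subgroup (MulAut S)} {s : S}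
    (hs : ∀ a ∈ A, MulAut.conj s * a * (MulAut.conj s)⁻¹ ∈ A) :
    MulAut.conj s ∈ normalizer (A : Set (MulAut S)) := by
  rw [mem_normalizer_iff_map_conj_eq]
  refine eq_of_le_of_card_ge ?_ (le_of_eq (card_map_of_injective (MulAut.conj (MulAut.conj s)).injective).symm)
  rintro _ ⟨u, hu, rfl⟩
  exact hs u hu

omit [Finite S] in
/-- a Sylow subgroup of `MulAut S` contains the inner automorphisms of a Sylow subgroup of `S` -/
theorem exists_sylow_conj [Finite (MulAut S)] (hZ : center S = ⊥) (P : Sylow p (MulAut S)) :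
    ∃ Q : Sylow p S, ∀ x ∈ Q, MulAut.conj x ∈ P := by
  have hinj := conj_injective hZ
  have hfS : Finite S := Finite.of_injective _ hinj
  obtain ⟨Q⟩ : Nonempty (Sylow p S) := inferInstance
  -- `P ∩ Inn S` is a Sylow subgroup of `Inn S`
  have hQ' : IsPGroup p ((Q : Subgroup S).map (MulAut.conj : S →* MulAut S)) := Q.2.map _
  obtain ⟨P', hP'⟩ := hQ'.exists_le_sylow
  obtain ⟨a, ha⟩ := MulAction.exists_smul_eq (MulAut S) P' P
  refine ⟨a • Q, ?_⟩
  intro x hx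
  have h1 : x ∈ (a • Q : Sylow p S) := hx
  have h2 : a⁻¹ x ∈ Q := by
    have h3 : x ∈ ((a • Q : Sylow p S) : Subgroup S) := hx
    rw [Sylow.pointwise_smul_def] at h3
    rwa [Subgroup.mem_pointwise_smul_iff_inv_smul_mem] at h3
  have h4 : MulAut.conj (a⁻¹ x) ∈ P' := hP' ⟨_, h2, rfl⟩
  have h5 : a * MulAut.conj (a⁻¹ x) * a⁻¹ ∈ (a • P' : Sylow p (MulAut S)) := by
    show a * MulAut.conj (a⁻¹ x) * a⁻¹ ∈ ((a • P' : Sylow p (MulAut S)) : Subgroup (MulAut S))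
    rw [Sylow.coe_subgroup_smul]
    exact ⟨MulAut.conj (a⁻¹ x), h4, rfl⟩
  rw [ha, conj_conj] at h5
  have h6 : a (a⁻¹ x) = x := MulAut.apply_inv_self S a x
  rwa [h6] at h5

theorem EvA.ev (hZ : center S = ⊥) (h : EvA p S) : Ev p S := by
  obtain ⟨P⟩ : Nonempty (Sylow p (MulAut S)) := inferInstance
  obtain ⟨Q, hQ⟩ := exists_sylow_conj hZ P
  obtain ⟨s, hs, hn⟩ := h P P.2 Q hQ
  obtain ⟨k, hk⟩ := hs
  have hk0 : k ≠ 0 := by
    rintro rfl
    exact (orderOf_pos s).ne' hk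
  have ho : orderOf (s ^ k) = 2 := by
    rw [orderOf_pow, hk, show k + k = k * 2 by ring, Nat.gcd_mul_right_left, Nat.mul_div_cancel_left _ (by omega)]
  refine ⟨P, s ^ k, ho, ?_⟩
  rw [map_pow]
  exact pow_mem (mem_normalizer_of hn) k

/-- the rows, conversely -/
theorem EvA.of_ev (h : Ev p S) : EvA p S := by
  intro A hA Q hQ
  have h1 : ¬ p ∣ A.relIndex (MulAut.conj : S →* MulAut S).range := by
    have hle : (Q : Subgroup S).map (MulAut.conj : S →* MulAut S) ≤ A := by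
      rintro _ ⟨x, hx, rfl⟩
      exact hQ x hx
    intro hd
    have h2 : ¬ p ∣ ((Q : Subgroup S).map (MulAut.conj : S →* MulAut S)).relIndex
        (MulAut.conj : S →* MulAut S).range := by
      rw [MonoidHom.range_eq_map, relIndex_map_map]
      intro hd
      apply Q.not_dvd_index
      have h5 : ((Q : Subgroup S) ⊔ (MulAut.conj : S →* MulAut S).ker).relIndex (⊤ ⊔ (MulAut.conj : S →* MulAut S).ker) =
          ((Q : Subgroup S) ⊔ (MulAut.conj : S →* MulAut S).ker).index := by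
        rw [top_sup_eq, relIndex_top_right]
      rw [h5] at hd
      exact hd.trans (index_dvd_of_le le_sup_left)
    exact h2 (hd.trans (relIndex_dvd_of_le_left _ hle))
  obtain ⟨t, ht, hn⟩ := h.all hA h1
  refine ⟨t, by rw [ht]; exact even_two, fun a ha => ?_⟩
  exact (mem_normalizer_iff.1 hn a).1 ha

theorem Row.of_evA (hZ : center S = ⊥) (h : EvA p S) : Row p S := Row.ev (h.ev hZ)

end

/-! ### the table -/

/-- the row for all nonabelian simple groups with the property `C` -/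
def RowFor (p : ℕ) (C : ∀ (X : Type) [Group X], Prop) : Prop :=
  ∀ (X : Type) [Group X] [Finite X] [IsSimpleGroup X], ¬ IsMulCommutative X → p ∣ Nat.card X → C X → Row p X

/-- the rows -/
structure Rows (p : ℕ) : Prop where
  alt : RowFor p (fun X _ => IsAlternating X)
  lie : RowFor p (fun X _ => IsLieTypeChar p X)
  psl : RowFor p (fun X _ => ∃ (F : Type) (_ : Field F) (_ : Fintype F) (n : ℕ), (p : F) ≠ 0 ∧ 2 ≤ n ∧
    Nonempty (X ≃* Matrix.ProjectiveSpecialLinearGroup (Fin n) F))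
  psp : RowFor p (fun X _ => ∃ (F : Type) (_ : Field F) (_ : Fintype F) (m : ℕ), (p : F) ≠ 0 ∧
    Nonempty (X ≃* PSp m F))
  psu : RowFor p (fun X _ => ∃ (F : Type) (_ : Field F) (_ : Fintype F) (n q : ℕ), (p : F) ≠ 0 ∧
    Fintype.card F = q ^ 2 ∧ 3 ≤ n ∧ ¬ (n = 3 ∧ q = 2) ∧ Nonempty (X ≃* PSU n F q))
  oodd : RowFor p (fun X _ => ∃ (F : Type) (_ : Field F) (_ : Fintype F) (m : ℕ), (p : F) ≠ 0 ∧
    3 ≤ m ∧ Odd (Fintype.card F) ∧ Nonempty (X ≃* POmega F (quadFormOdd m F)))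
  oplus : RowFor p (fun X _ => ∃ (F : Type) (_ : Field F) (_ : Fintype F) (m : ℕ), (p : F) ≠ 0 ∧
    4 ≤ m ∧ Nonempty (X ≃* POmega F (quadFormPlus m F)))
  ominus : RowFor p (fun X _ => ∃ (F : Type) (_ : Field F) (_ : Fintype F) (m : ℕ) (a b : F), (p : F) ≠ 0 ∧
    4 ≤ m ∧ (∀ z₁ z₂ : F, z₁ ^ 2 + a * z₁ * z₂ + b * z₂ ^ 2 = 0 → z₁ = 0 ∧ z₂ = 0) ∧
    Nonempty (X ≃* POmega F (quadFormMinus (m - 1) F a b)))
  g2 : RowFor p (fun X _ => ∃ (F : Type) (_ : Field F) (_ : Fintype F), (p : F) ≠ 0 ∧ 3 ≤ Fintype.card F ∧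
    Nonempty (X ≃* Lie.chevG2.group F))
  f4 : RowFor p (fun X _ => ∃ (F : Type) (_ : Field F) (_ : Fintype F), (p : F) ≠ 0 ∧ Nonempty (X ≃* Lie.chevF4.group F))
  e6 : RowFor p (fun X _ => ∃ (F : Type) (_ : Field F) (_ : Fintype F), (p : F) ≠ 0 ∧ Nonempty (X ≃* Lie.chevE6.group F))
  e7 : RowFor p (fun X _ => ∃ (F : Type) (_ : Field F) (_ : Fintype F), (p : F) ≠ 0 ∧ Nonempty (X ≃* Lie.chevE7.group F))
  e8 : RowFor p (fun X _ => ∃ (F : Type) (_ : Field F) (_ : Fintype F), (p : F) ≠ 0 ∧ Nonempty (X ≃* Lie.chevE8.group F))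
  te6 : RowFor p (fun X _ => ∃ (K : Type) (_ : Field K) (_ : Fintype K) (q : ℕ), (p : K) ≠ 0 ∧ IsPrimePow q ∧
    Fintype.card K = q ^ 2 ∧ Nonempty (X ≃* Lie.twistedE6 K q))
  td4 : RowFor p (fun X _ => ∃ (K : Type) (_ : Field K) (_ : Fintype K) (q : ℕ), (p : K) ≠ 0 ∧ IsPrimePow q ∧
    Fintype.card K = q ^ 3 ∧ Nonempty (X ≃* Lie.twistedD4 K q))
  sz : RowFor p (fun X _ => Lie.IsoSuzuki X)
  ree : p ≠ 3 → RowFor p (fun X _ => Lie.IsoRee X)
  tf4 : RowFor p (fun X _ => Lie.Iso2F4 X)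
  tits : RowFor p (fun X _ => Lie.IsoTits X)
  spor : RowFor p (fun X _ => IsSporadicGroup X)

theorem charP_of {p : ℕ} [Fact p.Prime] {F : Type*} [Field F] (h : (p : F) = 0) : CharP F p :=
  (CharP.charP_iff_prime_eq_zero Fact.out).2 h

theorem nonab_congr {X Y : Type*} [Group X] [Group Y] (e : X ≃* Y) (h : ¬ IsMulCommutative X) : ¬ IsMulCommutative Y := by
  intro hc
  refine h ⟨⟨fun a b => e.injective ?_⟩⟩
  rw [map_mul, map_mul]
  exact hc.is_comm.comm _ _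

section

variable {p : ℕ} [hp : Fact p.Prime] {X : Type} [Group X] [Finite X] [IsSimpleGroup X]

theorem Rows.classical (R : Rows p) (hna : ¬ IsMulCommutative X) (hd : p ∣ Nat.card X)
    (h : IsPSL X ∨ IsPSp X ∨ IsPSU X ∨ IsPOmegaOdd X ∨ IsPOmegaPlus X ∨ IsPOmegaMinus X) : Row p X := by
  rcases h with h | h | h | h | h | h
  · obtain ⟨F, iF, iN, n, hn, hn2, ⟨e⟩⟩ := h
    by_cases hF : (p : F) = 0
    · have h1 : IsPSLChar p X := ⟨F, iF, iN, charP_of hF, n, hn, hn2, ⟨e⟩⟩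
      exact R.lie X hna hd (Or.inl h1)
    · exact R.psl X hna hd ⟨F, iF, iN, n, hF, hn, ⟨e⟩⟩
  · obtain ⟨F, iF, iN, n, hn, hn2, ⟨e⟩⟩ := h
    by_cases hF : (p : F) = 0
    · have h1 : IsPSpChar p X := ⟨F, iF, iN, charP_of hF, n, hn, hn2, ⟨e⟩⟩
      exact R.lie X hna hd (Or.inr (Or.inl h1))
    · exact R.psp X hna hd ⟨F, iF, iN, n, hF, ⟨e⟩⟩
  · obtain ⟨F, iF, iN, n, q, hq, hn, hn2, ⟨e⟩⟩ := h
    by_cases hF : (p : F) = 0
    · have h1 : IsPSUChar p X := ⟨F, iF, iN, charP_of hF, n, q, hq, hn, hn2, ⟨e⟩⟩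
      exact R.lie X hna hd (Or.inr (Or.inr (Or.inl h1)))
    · exact R.psu X hna hd ⟨F, iF, iN, n, q, hF, hq, hn, hn2, ⟨e⟩⟩
  · obtain ⟨F, iF, iN, m, hm, hodd, ⟨e⟩⟩ := h
    by_cases hF : (p : F) = 0
    · have h1 : IsPOmegaOddChar p X := ⟨F, iF, iN, charP_of hF, m, hm, hodd, ⟨e⟩⟩
      exact R.lie X hna hd (Or.inr (Or.inr (Or.inr (Or.inl h1))))
    · exact R.oodd X hna hd ⟨F, iF, iN, m, hF, hm, hodd, ⟨e⟩⟩
  · obtain ⟨F, iF, iN, m, hm, ⟨e⟩⟩ := h
    by_cases hF : (p : F) = 0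
    · have h1 : IsPOmegaPlusChar p X := ⟨F, iF, iN, charP_of hF, m, hm, ⟨e⟩⟩
      exact R.lie X hna hd (Or.inr (Or.inr (Or.inr (Or.inr (Or.inl h1)))))
    · exact R.oplus X hna hd ⟨F, iF, iN, m, hF, hm, ⟨e⟩⟩
  · obtain ⟨F, iF, iN, m, a, b, hm, hab, ⟨e⟩⟩ := h
    by_cases hF : (p : F) = 0
    · have h1 : IsPOmegaMinusChar p X := ⟨F, iF, iN, charP_of hF, m, a, b, hm, hab, ⟨e⟩⟩
      exact R.lie X hna hd (Or.inr (Or.inr (Or.inr (Or.inr (Or.inr (Or.inl h1))))))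
    · exact R.ominus X hna hd ⟨F, iF, iN, m, a, b, hF, hm, hab, ⟨e⟩⟩

omit hp in
theorem Rows.lie_exc (R : Rows p) (hna : ¬ IsMulCommutative X) (hd : p ∣ Nat.card X) (h : IsExceptionalChevChar p X) :
    Row p X :=
  R.lie X hna hd (Or.inr (Or.inr (Or.inr (Or.inr (Or.inr (Or.inr (Or.inl h)))))))

omit hp in
theorem Rows.lie_tw (R : Rows p) (hna : ¬ IsMulCommutative X) (hd : p ∣ Nat.card X) (h : IsTwistedE6D4Char p X) :
    Row p X :=
  R.lie X hna hd (Or.inr (Or.inr (Or.inr (Or.inr (Or.inr (Or.inr (Or.inr (Or.inl h))))))))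

theorem Rows.exc (R : Rows p) (hna : ¬ IsMulCommutative X) (hd : p ∣ Nat.card X)
    (h : IsExceptionalLieType X) : Row p X := by
  rcases h with h | h | h | h | h | h | h | h | h | h | h
  · obtain ⟨F, iF, iN, h3, ⟨e⟩⟩ := h
    by_cases hF : (p : F) = 0
    · exact R.lie_exc hna hd ⟨F, iF, iN, charP_of hF, Or.inl ⟨h3, ⟨e⟩⟩⟩
    · exact R.g2 X hna hd ⟨F, iF, iN, hF, h3, ⟨e⟩⟩
  · obtain ⟨F, iF, iN, ⟨e⟩⟩ := h
    by_cases hF : (p : F) = 0
    · exact R.lie_exc hna hd ⟨F, iF, iN, charP_of hF, Or.inr (Or.inl ⟨e⟩)⟩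
    · exact R.f4 X hna hd ⟨F, iF, iN, hF, ⟨e⟩⟩
  · obtain ⟨F, iF, iN, ⟨e⟩⟩ := h
    by_cases hF : (p : F) = 0
    · exact R.lie_exc hna hd ⟨F, iF, iN, charP_of hF, Or.inr (Or.inr (Or.inl ⟨e⟩))⟩
    · exact R.e6 X hna hd ⟨F, iF, iN, hF, ⟨e⟩⟩
  · obtain ⟨F, iF, iN, ⟨e⟩⟩ := h
    by_cases hF : (p : F) = 0
    · exact R.lie_exc hna hd ⟨F, iF, iN, charP_of hF, Or.inr (Or.inr (Or.inr (Or.inl ⟨e⟩)))⟩
    · exact R.e7 X hna hd ⟨F, iF, iN, hF, ⟨e⟩⟩
  · obtain ⟨F, iF, iN, ⟨e⟩⟩ := h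
    by_cases hF : (p : F) = 0
    · exact R.lie_exc hna hd ⟨F, iF, iN, charP_of hF, Or.inr (Or.inr (Or.inr (Or.inr ⟨e⟩)))⟩
    · exact R.e8 X hna hd ⟨F, iF, iN, hF, ⟨e⟩⟩
  · obtain ⟨K, iF, iN, q, hq, hK, ⟨e⟩⟩ := h
    by_cases hF : (p : K) = 0
    · exact R.lie_tw hna hd ⟨K, iF, iN, charP_of hF, q, hq, Or.inl ⟨hK, ⟨e⟩⟩⟩
    · exact R.te6 X hna hd ⟨K, iF, iN, q, hF, hq, hK, ⟨e⟩⟩
  · obtain ⟨K, iF, iN, q, hq, hK, ⟨e⟩⟩ := h
    by_cases hF : (p : K) = 0
    · exact R.lie_tw hna hd ⟨K, iF, iN, charP_of hF, q, hq, Or.inr ⟨hK, ⟨e⟩⟩⟩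
    · exact R.td4 X hna hd ⟨K, iF, iN, q, hF, hq, hK, ⟨e⟩⟩
  · exact R.sz X hna hd h
  · by_cases hp3 : p = 3
    · exact R.lie X hna hd (Or.inr (Or.inr (Or.inr (Or.inr (Or.inr (Or.inr (Or.inr (Or.inr (Or.inr (Or.inr
        ⟨hp3, h⟩))))))))))
    · exact R.ree hp3 X hna hd h
  · exact R.tf4 X hna hd h
  · exact R.tits X hna hd h

/-- **The table**: from the rows. -/
theorem Rows.row (R : Rows p) {G : Type u} [Group G] [Finite G] [IsSimpleGroup G]
    (hna : ¬ IsMulCommutative G) (hd : p ∣ Nat.card G) (hk : IsKnownSimple' G) : Row p G := by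
  have e : G ≃* Shrink.{0} G := (Shrink.mulEquiv.{0}).symm
  have hf : Finite (Shrink.{0} G) := Finite.of_equiv _ e.toEquiv
  have hs : IsSimpleGroup (Shrink.{0} G) := e.symm.isSimpleGroup
  have h1 := nonab_congr e hna
  have h2 : p ∣ Nat.card (Shrink.{0} G) := by rwa [← Nat.card_congr e.toEquiv]
  refine Row.congr e.symm ?_
  rcases OddHalf.Known.isKnownSimple'_congr e hna hk with h | h | h | h | h | h | h | h | h | h
  · -- cyclic
    exfalso
    have h3 : (Nat.card (Shrink.{0} G)).Prime := h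
    have : Fact (Nat.card (Shrink.{0} G)).Prime := ⟨h3⟩
    have hc : IsCyclic (Shrink.{0} G) := isCyclic_of_prime_card rfl
    exact h1 ⟨⟨fun a b => by
      let _ : CommGroup (Shrink.{0} G) := IsCyclic.commGroup
      exact mul_comm a b⟩⟩
  · exact R.alt _ h1 h2 h
  · exact R.classical h1 h2 (Or.inl h)
  · exact R.classical h1 h2 (Or.inr (Or.inl h))
  · exact R.classical h1 h2 (Or.inr (Or.inr (Or.inl h)))
  · exact R.classical h1 h2 (Or.inr (Or.inr (Or.inr (Or.inl h))))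
  · exact R.classical h1 h2 (Or.inr (Or.inr (Or.inr (Or.inr (Or.inl h)))))
  · exact R.classical h1 h2 (Or.inr (Or.inr (Or.inr (Or.inr (Or.inr h)))))
  · exact R.exc h1 h2 h
  · exact R.spor _ h1 h2 h

end

end Cfsg.Agent.H952.On
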